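import Cfsg.Agent.Lib.TensorOrthMax.Main
import Cfsg.Agent.Lib.Subspaces.SympGen

/-!
The stabiliser of a tensor product of an alternating form and a larger symmetric form is maximal in the
symplectic group, in every dimension allowed by the orthogonal factor argument.
-/

set_option autoImplicit false

namespace Cfsg.Agent.Lib.GeomSmallSp.Tensor

open Matrix
open Cfsg.Agent.Lib.Subspaces.Transvection Cfsg.Agent.Lib.Subspaces.FormVec
  Cfsg.Agent.Lib.Subspaces.SympGen Cfsg.Agent.Lib.TensorFormMax.Basic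

theorem maximal {F : Type*} [Field F] [Fintype F] (m : ℕ) (hodd : Odd (Fintype.card F)) (n₁ n₂ : ℕ)
    (h1 : 2 ≤ n₁) (h2 : 5 ≤ n₂) (h12 : n₁ ≤ n₂) (e : (Fin m ⊕ Fin m) ≃ Fin n₁ × Fin n₂)
    (P : GL (Fin m ⊕ Fin m) F) (f₁ : (Fin n₁ → F) → (Fin n₁ → F) → F)
    (f₂ : (Fin n₂ → F) → (Fin n₂ → F) → F) (hf₁ : Cfsg.Geo.IsSymplecticForm f₁)
    (hf₂ : Cfsg.Geo.IsSymmetricForm f₂)
    (hT : Cfsg.Geo.IsTensorFormStructure id (Cfsg.sympForm m F) f₁ f₂ e P) :
    Cfsg.Geo.IsMaximalIn (Cfsg.spGL m F) (Cfsg.Geo.tensorProductSubgroup n₁ n₂ e P ⊓ Cfsg.spGL m F) := by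
  classical
  have hf := sympForm_isSymplectic (F := F) m
  have htwo : (2 : F) ≠ 0 := Ring.two_ne_zero fun h => by
    have := FiniteField.even_card_iff_char_two.mp h
    exact Nat.not_even_iff_odd.mpr hodd (Nat.even_iff.mpr this)
  have hs1 : SForm (RingHom.id F) (-1) f₁ :=
    { invol := fun _ => rfl, lin := isLinearLeft_of_bilinear hf₁.bilinear
      swap := fun x y => by rw [RingHom.id_apply, hf₁.skew y x, neg_one_mul]
      nondeg := fun v hv => (hf₁.nondegenerate v hv).1 }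
  refine Cfsg.Agent.Lib.TensorOrthMax.Main.maximal_of (ε := -1) (Or.inr rfl) htwo (Cfsg.sympForm m F)
    hf.bilinear (fun x y => by rw [hf.skew y x, neg_one_mul]) _ (fun g hg => mem_spGL_iff.1 hg)
    (fun g hg => ?_) (fun g p w hp hw hg => ?_) (fun M hM => ?_) n₁ n₂ h1 h2 h12 (Or.inr rfl) e P f₁ f₂
    hs1 hf₂ (fun B M D hG A => ?_) hT
  · exact (Cfsg.spGL m F).mul_mem (mem_spGL_iff.2 hg) (mem_spGL_iff.2 hg)
  · refine mem_spGL_iff.2 fun x y => ?_
    have hpw := Cfsg.Agent.Lib.Subspaces.SympGen.swap_eq_zero hf hw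
    rw [hg, hg]
    simp only [hf.alternating, zero_div, zero_mul, zero_smul, sub_zero, neg_one_mul, neg_smul,
      sub_neg_eq_add, hf.bilinear.add_left, hf.bilinear.add_right, hf.bilinear.smul_left,
      hf.bilinear.smul_right, hw, hpw, hf.skew w y, hf.skew p y]
    ring
  · refine spGL_le fun v a => ?_
    rcases eq_or_ne v 0 with rfl | hv
    · rw [tv_zero_left]; exact M.one_mem
    obtain ⟨g, hg, hgx⟩ := (hM v hv (hf.alternating v)).2 a (by ring)
    rwa [show tv v (a • formVec (Cfsg.sympForm m F) v) = g from gl_ext fun x => by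
      rw [hgx, stv_mulVec hf]]
  · refine Cfsg.Agent.Lib.TensorOrthMax.Full.allHas_symp D rfl hf₁ (Or.inr ⟨-1, by simp, fun h => htwo ?_⟩) hG A
    linear_combination -h

end Cfsg.Agent.Lib.GeomSmallSp.Tensor
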